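import Groth.Agent.ProjBundle14.LocalTriv
import Groth.Agent.EulerPn5.Bundle
import Groth.Agent.RelVALib.UPGen

/-!
# The complement of a sub-bundle of a projective bundle
-/

set_option autoImplicit false
set_option linter.style.haveILetI false
set_option linter.unusedSectionVars false
set_option backward.isDefEq.respectTransparency.types false
set_option maxHeartbeats 1000000

universe u

open CategoryTheory CategoryTheory.Limits AlgebraicGeometry Opposite TopologicalSpace
open Groth.Agent.Coherent Groth.Agent.PicLib Groth.Agent.AmpleLib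

namespace Groth.Agent.SubPB24

variable {X P PB : Scheme.{u}} {S : ShortComplex X.Modules} (hS : S.ShortExact)
  {π : P ⟶ X} {O1 : P.Modules} {q : (Scheme.Modules.pullback π).obj S.X₂ ⟶ O1}
  (hP : KRR.IsProjBundle π S.X₂ O1 q)
  {πB : PB ⟶ X} {O1B : PB.Modules} {qB : (Scheme.Modules.pullback πB).obj S.X₃ ⟶ O1B}
  (hPB : KRR.IsProjBundle πB S.X₃ O1B qB)
  {c : PB ⟶ P} (hc : c ≫ π = πB) (ec : (Scheme.Modules.pullback c).obj O1 ≅ O1B)
  (hcq : (Scheme.Modules.pullbackCongr hc).inv.app S.X₂ ≫ (Scheme.Modules.pullbackComp c π).inv.app S.X₂ ≫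
    (Scheme.Modules.pullback c).map q ≫ ec.hom = (Scheme.Modules.pullback πB).map S.g ≫ qB)

include hS hP hPB hc hcq in
/-- Off the sub-bundle some section of the kernel generates. -/
theorem exists_gen_of_not_mem_range (y : P) (hy : y ∉ Set.range c) :
    ∃ (U : X.Opens) (a : Γ(S.X₁, U)) (O : P.Opens) (hO : O ≤ π ⁻¹ᵁ U), y ∈ O ∧
      IsGen O1 O (resM O1 hO (KRRPBLib.sec q (S.f.app U a))) := by
  by_contra hcon
  push Not at hcon
  have hO1 := KRRPBLib.isInvertible_of_rankOne hP.invertible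
  let T := Spec (P.residueField y)
  let ξ : T ⟶ P := P.fromSpecResidueField y
  haveI : Subsingleton T := inferInstanceAs (Subsingleton (PrimeSpectrum (P.residueField y)))
  let g := ξ ≫ π
  let N := (Scheme.Modules.pullback ξ).obj O1
  have hN : PicF.IsInvertible N := PicLoc.isInvertible_pullback ξ hO1
  let s0 : (Scheme.Modules.pullback g).obj S.X₂ ⟶ N := (Scheme.Modules.pullbackCongr (rfl : ξ ≫ π = g)).inv.app S.X₂ ≫
    (Scheme.Modules.pullbackComp ξ π).inv.app S.X₂ ≫ (Scheme.Modules.pullback ξ).map q ≫ (Iso.refl N).hom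
  haveI := hP.epi
  haveI : Epi s0 := by
    haveI : Epi ((Scheme.Modules.pullback ξ).map q) := inferInstance
    exact epi_comp _ _
  let t := (Scheme.Modules.pullbackPushforwardAdjunction g).homEquiv S.X₂ N s0
  have ht : RelVALib.Classifies (KRRPBLib.adjunct q) g t ξ rfl (Iso.refl N) := by
    refine (RelVALib.classifies_iff (φ := KRRPBLib.adjunct q) (rfl : ξ ≫ π = g) (Iso.refl N) s0).1 ?_
    rw [KRRPBLib.adjunct, Equiv.symm_apply_apply]
  -- the composite with the kernel vanishes
  have hzero : S.f ≫ t = 0 := by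
    refine RelVALib.hom_ext_affine _ _ fun U hU a => ?_
    show t.app U (S.f.app U a) = (0 : Γ(N, g ⁻¹ᵁ U))
    refine AmpleLib.sec_ext (U := g ⁻¹ᵁ U) N _ _ fun z hz => ?_
    obtain ⟨V, hzV, gN, hgN⟩ := exists_isGen hN z
    obtain rfl : V = ⊤ := top_le_iff.1 fun w _ => Subsingleton.elim z w ▸ hzV
    have hle : (⊤ : T.Opens) ≤ g ⁻¹ᵁ U := fun w _ => Subsingleton.elim z w ▸ hz
    refine ⟨⊤, hle, trivial, ?_⟩
    rw [map_zero]
    have hval : resM N hle (t.app U (S.f.app U a)) =
        resM N hle (pullSec ξ (KRRPBLib.sec q (S.f.app U a))) := by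
      have h0 := congrArg (resM N hle) (ht U hU (S.f.app U a))
      have h0' := h0.trans (resM_resM N (RelVALib.le_of_over (rfl : ξ ≫ π = g) U) hle _)
      exact h0'.symm
    rw [hval]
    by_contra hne
    let cf := hgN.coef le_rfl (resM N hle (pullSec ξ (KRRPBLib.sec q (S.f.app U a))))
    have hcf := hgN.coef_spec le_rfl (resM N hle (pullSec ξ (KRRPBLib.sec q (S.f.app U a))))
    rw [resM_self] at hcf
    have hu : IsUnit cf := by
      let e := Scheme.ΓSpecIso (P.residueField y)
      have hne' : e.hom cf ≠ 0 := fun h0 => hne (hcf.symm.trans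
        ((congrArg (· • gN) (show cf = 0 from (ConcreteCategory.bijective_of_isIso e.hom).1
          (h0.trans (map_zero _).symm))).trans (zero_smul _ gN)))
      have h1 := (isUnit_iff_ne_zero.2 hne').map e.inv.hom
      rwa [show e.inv.hom (e.hom cf) = cf from ConcreteCategory.congr_hom e.hom_inv_id cf] at h1
    have hgen : IsGen N ⊤ (resM N hle (pullSec ξ (KRRPBLib.sec q (S.f.app U a)))) := by
      rw [← hcf]
      exact (isGen_smul_iff hu).2 hgN
    obtain ⟨O, hO, hyO, hOgen⟩ := RelVALib.exists_isGen_of_pullSec ξ hO1 (KRRPBLib.sec q (S.f.app U a)) hle hgen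
      (show z ∈ (⊤ : T.Opens) from trivial)
    rw [P.fromSpecResidueField_apply y z] at hyO
    exact hcon U a O hO hyO hOgen
  -- descend to the quotient
  let tB : S.X₃ ⟶ (Scheme.Modules.pushforward g).obj N := hS.gIsCokernel.desc (CokernelCofork.ofπ t hzero)
  have htB : S.g ≫ tB = t := hS.gIsCokernel.fac (CokernelCofork.ofπ t hzero) WalkingParallelPair.one
  have hepiB : Epi (((Scheme.Modules.pullbackPushforwardAdjunction g).homEquiv S.X₃ N).symm tB) := by
    have h1 : (Scheme.Modules.pullback g).map S.g ≫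
        ((Scheme.Modules.pullbackPushforwardAdjunction g).homEquiv S.X₃ N).symm tB = s0 := by
      rw [← Adjunction.homEquiv_naturality_left_symm, htB, Equiv.symm_apply_apply]
    exact epi_of_epi_fac h1
  obtain ⟨rB, ⟨hrB, τB, hτB⟩, -⟩ := KRRPBLib.exists_classifies hPB g hN tB hepiB
  -- the sub-bundle classifies the composite
  let tc := (Scheme.Modules.pullbackPushforwardAdjunction πB).homEquiv S.X₂ O1B
    ((Scheme.Modules.pullback πB).map S.g ≫ qB)
  have hcl : RelVALib.Classifies (KRRPBLib.adjunct q) πB tc c hc ec := by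
    refine (RelVALib.classifies_iff (φ := KRRPBLib.adjunct q) hc ec _).1 ?_
    rw [KRRPBLib.adjunct, Equiv.symm_apply_apply]
    exact hcq
  have htc : tc = S.g ≫ KRRPBLib.adjunct qB := Adjunction.homEquiv_naturality_left _ _ _
  obtain ⟨τ', hτ'⟩ := hcl.comp rB hrB τB t fun U hU e hle => by
    have h1 : τB.hom.app (rB ⁻¹ᵁ (πB ⁻¹ᵁ U)) (pullSec rB (show Γ(O1B, πB ⁻¹ᵁ U) from tc.app U e)) =
        resM N (RelVALib.le_of_over hrB U) (tB.app U (S.g.app U e)) := by
      rw [htc]
      exact hτB U hU (S.g.app U e)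
    rw [h1, resM_resM, ← htB]
    exact (resM_self N _ _).symm
  have hepi : Epi (((Scheme.Modules.pullbackPushforwardAdjunction g).homEquiv S.X₂ N).symm t) := by
    rw [show t = (Scheme.Modules.pullbackPushforwardAdjunction g).homEquiv S.X₂ N s0 from rfl, Equiv.symm_apply_apply]
    infer_instance
  obtain ⟨r₀, -, huniq⟩ := KRRPBLib.exists_classifies hP g hN t hepi
  have heq : rB ≫ c = ξ := (huniq _ ⟨_, τ', hτ'⟩).trans (huniq ξ ⟨rfl, Iso.refl N, ht⟩).symm
  refine hy ⟨rB (IsLocalRing.closedPoint (P.residueField y)), ?_⟩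
  rw [← Scheme.Hom.comp_apply, heq]
  exact P.fromSpecResidueField_apply y _

include hS hP hPB hc hcq in
theorem epi_restrict (W : P.Opens) (hW : Disjoint (W : Set P) (Set.range c)) :
    Epi ((Scheme.Modules.pullback W.ι).map ((Scheme.Modules.pullback π).map S.f ≫ q)) := by
  let φ := (Scheme.Modules.pullback π).map S.f ≫ q
  let L := (Scheme.Modules.pullback W.ι).obj O1
  let tW := (Scheme.Modules.pullbackPushforwardAdjunction (W.ι ≫ π)).homEquiv S.X₁ L
    ((Scheme.Modules.pullbackComp W.ι π).inv.app S.X₁ ≫ (Scheme.Modules.pullback W.ι).map φ ≫ 𝟙 L)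
  have hO1 := KRRPBLib.isInvertible_of_rankOne hP.invertible
  have h := RelVALib.epi_of_exists_gen (L := L) (W.ι ≫ π) tW fun y => by
    obtain ⟨U, a, O, hO, hyO, hgen⟩ := exists_gen_of_not_mem_range hS hP hPB hc ec hcq (W.ι y)
      (fun hr => Set.disjoint_left.1 hW y.2 hr)
    refine ⟨U, a, W.ι ⁻¹ᵁ O, W.ι.preimage_mono hO, hyO, ?_⟩
    rw [show tW.app U a = _ from KRRPBLib.app_adjunct_pullback (q := φ) W.ι (𝟙 L) U a,
      show KRRPBLib.adjunct φ = S.f ≫ KRRPBLib.adjunct q from Adjunction.homEquiv_naturality_left _ _ _]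
    show IsGen L _ (resM L (W.ι.preimage_mono hO) (pullSec W.ι (KRRPBLib.sec q (S.f.app U a))))
    rw [resM_pullSec W.ι hO]
    exact isGen_pullSec W.ι hgen hO1
  rw [Equiv.symm_apply_apply, Category.comp_id] at h
  exact @epi_of_epi _ _ _ _ _ _ _ h

end Groth.Agent.SubPB24
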